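import Mathlib.LinearAlgebra.TensorProduct.Basis
import Mathlib.LinearAlgebra.Basis.VectorSpace
import Mathlib.RingTheory.TensorProduct.Maps
import Mathlib.RingTheory.Ideal.Quotient.Operations
import Mathlib.RingTheory.Flat.Basic

/-! # Elements of a tensor product lying in a subspace of the left factor -/

set_option autoImplicit false

universe u

open scoped TensorProduct

noncomputable section

namespace GrothLib.MagnetKempf

variable {k : Type u} [Field k] {C D A R : Type u} [CommRing C] [CommRing D] [CommRing A] [CommRing R]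
  [Algebra k C] [Algebra k D] [Algebra k A] [Algebra k R] (incl : D →ₐ[k] C) (δ : A →ₐ[k] C ⊗[k] A)

/-- Evaluation of a functional on the left factor. -/
def evalLeft (ℓ : C →ₗ[k] k) (M : Type u) [AddCommGroup M] [Module k M] : C ⊗[k] M →ₗ[k] M :=
  TensorProduct.lift ((LinearMap.lsmul k M).comp ℓ)

theorem evalLeft_tmul (ℓ : C →ₗ[k] k) (M : Type u) [AddCommGroup M] [Module k M] (c : C) (m : M) :
    evalLeft ℓ M (c ⊗ₜ m) = ℓ c • m := rfl

theorem evalLeft_map (ℓ : C →ₗ[k] k) (φ : A →ₐ[k] R) (z : C ⊗[k] A) :
    evalLeft ℓ R (Algebra.TensorProduct.map (AlgHom.id k C) φ z) = φ (evalLeft ℓ A z) := by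
  induction z using TensorProduct.induction_on with
  | zero => simp
  | tmul c a => simp [evalLeft_tmul]
  | add x y hx hy => simp [map_add, hx, hy]

/-- The ideal cutting out the locus where the coaction has values in `D ⊗ A`. -/
def extIdeal : Ideal A :=
  Ideal.span {y | ∃ (ℓ : C →ₗ[k] k) (a : A), (∀ d, ℓ (incl d) = 0) ∧ evalLeft ℓ A (δ a) = y}

theorem evalLeft_of_range (ℓ : C →ₗ[k] k) (hℓ : ∀ d, ℓ (incl d) = 0) (M : Type u) [CommRing M] [Algebra k M]
    (w : D ⊗[k] M) : evalLeft ℓ M (Algebra.TensorProduct.map incl (AlgHom.id k M) w) = 0 := by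
  induction w using TensorProduct.induction_on with
  | zero => simp
  | tmul d m => simp [evalLeft_tmul, hℓ]
  | add x y hx hy => simp [map_add, hx, hy]

theorem eq_zero_of_evalLeft {z : C ⊗[k] R} (h : ∀ ℓ : C →ₗ[k] k, evalLeft ℓ R z = 0) : z = 0 := by
  classical
  let b := Module.Basis.ofVectorSpace k C
  apply (TensorProduct.equivFinsuppOfBasisLeft b).injective
  rw [map_zero]
  ext i
  rw [Finsupp.zero_apply, ← h (b.coord i)]
  clear h
  induction z using TensorProduct.induction_on with
  | zero => simp
  | tmul c m => simp [evalLeft_tmul]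
  | add x y hx hy => simp [map_add, hx, hy]

variable (hincl : Function.Injective incl)

include hincl in
theorem mem_range_of_evalLeft {z : C ⊗[k] R}
    (h : ∀ ℓ : C →ₗ[k] k, (∀ d, ℓ (incl d) = 0) → evalLeft ℓ R z = 0) :
    ∃ w : D ⊗[k] R, Algebra.TensorProduct.map incl (AlgHom.id k R) w = z := by
  obtain ⟨r, hr⟩ := incl.toLinearMap.exists_leftInverse_of_injective (LinearMap.ker_eq_bot.2 hincl)
  let q : C →ₗ[k] C := LinearMap.id - incl.toLinearMap.comp r
  refine ⟨TensorProduct.map r LinearMap.id z, ?_⟩
  have hz : TensorProduct.map q LinearMap.id z = 0 := by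
    refine eq_zero_of_evalLeft fun ℓ => ?_
    have e : evalLeft ℓ R (TensorProduct.map q LinearMap.id z) = evalLeft (ℓ.comp q) R z := by
      clear h
      induction z using TensorProduct.induction_on with
      | zero => simp
      | tmul c m => simp [evalLeft_tmul]
      | add x y hx hy => simp [map_add, hx, hy]
    rw [e]
    refine h _ fun d => ?_
    have hd : r (incl d) = d := LinearMap.congr_fun hr d
    simp [q, hd]
  clear h
  have e : ∀ z : C ⊗[k] R, Algebra.TensorProduct.map incl (AlgHom.id k R) (TensorProduct.map r LinearMap.id z) +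
      TensorProduct.map q LinearMap.id z = z := fun z => by
    induction z using TensorProduct.induction_on with
    | zero => simp
    | tmul c m => simp [q, ← TensorProduct.add_tmul]
    | add x y hx hy =>
      conv_rhs => rw [← hx, ← hy]
      simp only [map_add]
      abel
  have := e z
  rwa [hz, add_zero] at this

include hincl in
theorem exists_lift_iff (φ : A →ₐ[k] R) :
    (∃ ψ : A →ₐ[k] D ⊗[k] R, (Algebra.TensorProduct.map incl (AlgHom.id k R)).comp ψ =
      (Algebra.TensorProduct.map (AlgHom.id k C) φ).comp δ) ↔ extIdeal incl δ ≤ RingHom.ker φ := by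
  constructor
  · rintro ⟨ψ, hψ⟩
    refine Ideal.span_le.2 ?_
    rintro _ ⟨ℓ, a, hℓ, rfl⟩
    change φ _ = 0
    rw [← evalLeft_map, ← AlgHom.comp_apply, ← hψ, AlgHom.comp_apply]
    exact evalLeft_of_range incl ℓ hℓ R _
  · intro h
    let m := Algebra.TensorProduct.map incl (AlgHom.id k R)
    have hm : Function.Injective m :=
      Module.Flat.rTensor_preserves_injective_linearMap (M := R) incl.toLinearMap hincl
    have hr : ∀ a, (Algebra.TensorProduct.map (AlgHom.id k C) φ).comp δ a ∈ m.range := fun a => by
      obtain ⟨w, hw⟩ := mem_range_of_evalLeft incl hincl (z := (Algebra.TensorProduct.map (AlgHom.id k C) φ) (δ a))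
        fun ℓ hℓ => by
          rw [evalLeft_map]
          exact h (Ideal.subset_span ⟨ℓ, a, hℓ, rfl⟩)
      exact ⟨w, hw⟩
    refine ⟨(AlgEquiv.ofInjective m hm).symm.toAlgHom.comp
      (((Algebra.TensorProduct.map (AlgHom.id k C) φ).comp δ).codRestrict m.range hr), AlgHom.ext fun a => ?_⟩
    exact congrArg Subtype.val ((AlgEquiv.ofInjective m hm).apply_symm_apply
      ((((Algebra.TensorProduct.map (AlgHom.id k C) φ).comp δ).codRestrict m.range hr) a))

end GrothLib.MagnetKempf
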