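import Groth.Agent.Lib.MagnetKempf25.Annihilator
import Groth.Agent.Lib.MagnetSep25.Basic
import Groth.Agent.Lib.MagnetSheaf25.Basic
import Groth.Agent.Lib.Chow.Core
import Groth.Agent.Lib.CartTorsor.OrbitStab
import Groth.Agent.Lib.AlgSp.FieldBase
import Groth.Prelude.Def_Magnet4
import Groth.Prelude.Def_CoactBr
import Mathlib.AlgebraicGeometry.Sites.BigZariski
import Mathlib.AlgebraicGeometry.Morphisms.SchemeTheoreticallyDominant

/-! # Equivariant maps out of an affine monoid containing a dense affine group, with affine target -/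

set_option autoImplicit false
set_option backward.isDefEq.respectTransparency false
set_option backward.isDefEq.respectTransparency.types false

universe u

open CategoryTheory CategoryTheory.Limits MonoidalCategory CartesianMonoidalCategory MonObj AlgebraicGeometry Opposite
open scoped TensorProduct

noncomputable section

namespace GrothLib.MagnetKempf

variable {k : Type u} [Field k]

/-- An affine scheme over a field is the spectrum of an algebra. -/
theorem exists_iso_sp (P : Over (Spec (CommRingCat.of k))) [IsAffine P.left] :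
    ∃ (B : Type u) (_ : CommRing B) (_ : Algebra k B), Nonempty (P ≅ CoactBr.sp k B) := by
  let φ : CommRingCat.of k ⟶ Γ(P.left, ⊤) := (Scheme.ΓSpecIso (CommRingCat.of k)).inv ≫ P.hom.appTop
  refine ⟨Γ(P.left, ⊤), inferInstance, φ.hom.toAlgebra, ⟨Over.isoMk P.left.isoSpec ?_⟩⟩
  change P.left.toSpecΓ ≫ Spec.map φ = P.hom
  rw [Spec.map_comp, ← Category.assoc, ← Scheme.toSpecΓ_naturality, Category.assoc, ← SpecMap_ΓSpecIso_hom,
    ← Spec.map_comp, Iso.inv_hom_id, Spec.map_id, Category.comp_id]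

theorem exists_alg_pt {B K : Type u} [CommRing B] [CommRing K] [Algebra k B] [Algebra k K]
    (x : CoactBr.sp k K ⟶ CoactBr.sp k B) : ∃ φ : B →ₐ[k] K, CoactBr.pt φ = x := by
  obtain ⟨ψ, hψ⟩ := Spec.map_surjective x.left
  have hw : x.left ≫ (CoactBr.sp k B).hom = (CoactBr.sp k K).hom := Over.w x
  change x.left ≫ Spec.map _ = Spec.map _ at hw
  rw [← hψ, ← Spec.map_comp] at hw
  refine ⟨⟨ψ.hom, fun r => ?_⟩, Over.OverMorphism.ext ?_⟩
  · exact congrArg (fun g => g.hom r) (Spec.map_injective hw)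
  · rw [CoactBr.pt_left]
    exact hψ

/-- The universal pair of points. -/
def uni2 (B C : Type u) [CommRing B] [CommRing C] [Algebra k B] [Algebra k C] :
    CoactBr.sp k (B ⊗[k] C) ⟶ CoactBr.sp k B ⊗ CoactBr.sp k C :=
  lift (CoactBr.pt (Algebra.TensorProduct.includeLeft : B →ₐ[k] B ⊗[k] C))
    (CoactBr.pt (Algebra.TensorProduct.includeRight : C →ₐ[k] B ⊗[k] C))

instance epi_uni2 (B C : Type u) [CommRing B] [CommRing C] [Algebra k B] [Algebra k C] : Epi (uni2 (k := k) B C) :=
  ⟨fun f g h => Magnet.hom_ext_pt h⟩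

local instance braidedAlgSpec' : (algSpec (CommRingCat.of k)).Braided := braidedAlgSpec

instance isIso_uni2 (B C : Type u) [CommRing B] [CommRing C] [Algebra k B] [Algebra k C] : IsIso (uni2 (k := k) B C) := by
  have e : uni2 (k := k) B C ≫ Functor.LaxMonoidal.μ (algSpec (CommRingCat.of k)) (op (.of k B)) (op (.of k C)) =
      𝟙 _ := by
    rw [uni2, CoactBr.lift_pt_pt, Algebra.TensorProduct.lift_includeLeft_includeRight, CoactBr.pt_id]
  have hμ : IsIso (Functor.LaxMonoidal.μ (algSpec (CommRingCat.of k)) (op (.of k B)) (op (.of k C))) :=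
    inferInstance
  have hiso : IsIso (uni2 (k := k) B C ≫
      Functor.LaxMonoidal.μ (algSpec (CommRingCat.of k)) (op (.of k B)) (op (.of k C))) := by
    rw [e]; exact IsIso.id (CoactBr.sp k (B ⊗[k] C))
  exact @IsIso.of_isIso_comp_right _ _ _ _ _ (uni2 (k := k) B C)
    (Functor.LaxMonoidal.μ (algSpec (CommRingCat.of k)) (op (.of k B)) (op (.of k C))) hμ hiso

theorem pt_uni2 {B C B' C' : Type u} [CommRing B] [CommRing C] [CommRing B'] [CommRing C'] [Algebra k B] [Algebra k C]
    [Algebra k B'] [Algebra k C'] (f : B →ₐ[k] B') (g : C →ₐ[k] C') :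
    CoactBr.pt (Algebra.TensorProduct.map f g) ≫ uni2 B C = uni2 B' C' ≫ (CoactBr.pt f ⊗ₘ CoactBr.pt g) := by
  rw [uni2, uni2, lift_map, comp_lift, ← CoactBr.pt_comp, ← CoactBr.pt_comp, ← CoactBr.pt_comp, ← CoactBr.pt_comp,
    Algebra.TensorProduct.map_comp_includeLeft, Algebra.TensorProduct.map_comp_includeRight]

variable {M G X : Over (Spec (CommRingCat.of k))} [MonObj M] [GrpObj G] (i : G ⟶ M) [IsMonHom i]
  (a : AlgGrp.Action G X)

/-- The value at the unit. -/
abbrev evOne {T : Over (Spec (CommRingCat.of k))} (y : (Magnet.MonAct.eqvHom ((Magnet.MonAct.regular M).restrict i)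
    (Magnet.MonAct.ofAction a)).obj (op T)) : T ⟶ X :=
  (Magnet.MonAct.eqvHom.evalAt ((Magnet.MonAct.regular M).restrict i) (Magnet.MonAct.ofAction a) η[M]).app (op T) y

/-- The orbit map of a point. -/
abbrev orbMap {T : Over (Spec (CommRingCat.of k))} (x : T ⟶ X) : G ⊗ T ⟶ X := (G ◁ x) ≫ a.act

theorem restrict_eq_orbMap {T : Over (Spec (CommRingCat.of k))} (y : (Magnet.MonAct.eqvHom ((Magnet.MonAct.regular M).restrict i) (Magnet.MonAct.ofAction a)).obj (op T)) :
    (i ▷ T) ≫ y.1 = orbMap a (evOne i a y) := by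
  refine Magnet.hom_ext_lift₂ fun T' g t => ?_
  have h := (Magnet.MonAct.mem_eqvHom_iff y.1).1 y.2 T' g (toUnit T' ≫ η[M]) t
  rw [Magnet.MonAct.lift_restrict_act, Magnet.MonAct.lift_regular_act, ← Hom.one_def, _root_.mul_one] at h
  rw [lift_whiskerRight_assoc, h, orbMap, lift_whiskerLeft_assoc]
  change lift g (lift (1 : T' ⟶ M) t ≫ y.1) ≫ a.act = lift g (t ≫ lift (toUnit T ≫ η[M]) (𝟙 T) ≫ y.1) ≫ a.act
  rw [comp_lift_assoc t, Category.comp_id, Hom.one_def, ← Category.assoc t, toUnit_unique (t ≫ toUnit T) (toUnit T')]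

variable [IsAffine M.left] [IsAffine G.left] [IsSchemeTheoreticallyDominant i.left]

theorem isSTD_whiskerRight (T : Over (Spec (CommRingCat.of k))) : IsSchemeTheoreticallyDominant (i ▷ T).left := by
  haveI : Flat (fst M T).left := by
    haveI := GrothLib.AlgSp.flat_to_field T.hom
    change Flat (pullback.fst M.hom T.hom)
    infer_instance
  haveI : IsAffineHom i.left := inferInstance
  exact IsSchemeTheoreticallyDominant.of_isPullback (CartTorsor.isPullback_whiskerRight_fst i T).flip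

theorem evOne_injective [IsSeparated X.hom] (T : Over (Spec (CommRingCat.of k)))
    (y y' : (Magnet.MonAct.eqvHom ((Magnet.MonAct.regular M).restrict i) (Magnet.MonAct.ofAction a)).obj (op T)) (h : evOne i a y = evOne i a y') : y = y' := by
  haveI := isSTD_whiskerRight i T
  refine Subtype.ext (Over.OverMorphism.ext (Chow.ext_of_stdDominant (i ▷ T).left X.hom
    ((Over.w y.1).trans (Over.w y'.1).symm) ?_))
  rw [← Over.comp_left, ← Over.comp_left, restrict_eq_orbMap i a y, restrict_eq_orbMap i a y', h]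

theorem isEquivariant_of_restrict [IsSeparated X.hom] {T : Over (Spec (CommRingCat.of k))} (x : T ⟶ X) (e : M ⊗ T ⟶ X)
    (he : (i ▷ T) ≫ e = orbMap a x) :
    Magnet.MonAct.IsEquivariant (((Magnet.MonAct.regular M).restrict i).prod (Magnet.MonAct.trivial G T)) (Magnet.MonAct.ofAction a) e := by
  haveI := isSTD_whiskerRight i (G ⊗ T)
  unfold Magnet.MonAct.IsEquivariant
  -- test on `G ⊗ (G ⊗ T)`
  let σ : M ⊗ (G ⊗ T) ⟶ G ⊗ (M ⊗ T) := lift (snd _ _ ≫ fst _ _) (lift (fst _ _) (snd _ _ ≫ snd _ _))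
  let σ' : G ⊗ (M ⊗ T) ⟶ M ⊗ (G ⊗ T) := lift (snd _ _ ≫ fst _ _) (lift (fst _ _) (snd _ _ ≫ snd _ _))
  have hσ : σ' ≫ σ = 𝟙 _ := by
    apply CartesianMonoidalCategory.hom_ext <;> simp [σ, σ', comp_lift]
  suffices σ ≫ (((Magnet.MonAct.regular M).restrict i).prod (Magnet.MonAct.trivial G T)).act ≫ e = σ ≫ (G ◁ e) ≫ (Magnet.MonAct.ofAction a).act by
    have := congrArg (σ' ≫ ·) this
    simpa [reassoc_of% hσ] using this
  apply Over.OverMorphism.ext
  refine Chow.ext_of_stdDominant (i ▷ (G ⊗ T)).left X.hom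
    ((Over.w (σ ≫ (((Magnet.MonAct.regular M).restrict i).prod (Magnet.MonAct.trivial G T)).act ≫ e)).trans
      (Over.w (σ ≫ (G ◁ e) ≫ (Magnet.MonAct.ofAction a).act)).symm) ?_
  rw [← Over.comp_left, ← Over.comp_left]
  refine congrArg CommaMorphism.left (Magnet.hom_ext_lift₂ fun T' h z => ?_)
  rw [lift_whiskerRight_assoc, lift_whiskerRight_assoc]
  have e1 : ∀ (g : T' ⟶ G) (t : T' ⟶ T), lift (g ≫ i) t ≫ e = lift g (t ≫ x) ≫ a.act := fun g t => by
    rw [← lift_whiskerRight_assoc, he, orbMap, lift_whiskerLeft_assoc]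
  obtain ⟨g, t, rfl⟩ : ∃ (g : T' ⟶ G) (t : T' ⟶ T), z = lift g t :=
    ⟨z ≫ fst _ _, z ≫ snd _ _, by rw [← comp_lift, lift_fst_snd, Category.comp_id]⟩
  have e2 : lift (h ≫ i) (lift g t) ≫ σ = lift g (lift (h ≫ i) t) := by
    apply CartesianMonoidalCategory.hom_ext <;> simp [σ, comp_lift]
  rw [reassoc_of% e2, reassoc_of% e2, Magnet.MonAct.lift_prod_act_assoc, Magnet.MonAct.lift_restrict_act,
    Magnet.MonAct.lift_regular_act, Magnet.MonAct.lift_trivial_act, lift_whiskerLeft_assoc, ← MonObj.mul_comp, e1, e1]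
  change _ = lift g (lift h (t ≫ x) ≫ a.act) ≫ a.act
  exact Magnet.MonAct.lift_mul_act (Magnet.MonAct.ofAction a) g h (t ≫ x)

theorem injective_of_isSTD {B C : Type u} [CommRing B] [CommRing C] [Algebra k B] [Algebra k C] (f : B →ₐ[k] C)
    [IsSchemeTheoreticallyDominant (CoactBr.pt f).left] : Function.Injective f := by
  have h : IsSchemeTheoreticallyDominant (Spec.map (CommRingCat.ofHom f.toRingHom)) :=
    inferInstanceAs (IsSchemeTheoreticallyDominant (CoactBr.pt f).left)
  have hi := (Spec.map (CommRingCat.ofHom f.toRingHom)).app_injective ⊤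
  intro x y hxy
  have he : ∀ z, (Spec.map (CommRingCat.ofHom f.toRingHom)).appTop ((Scheme.ΓSpecIso (CommRingCat.of B)).inv z) =
      (Scheme.ΓSpecIso (CommRingCat.of C)).inv (f z) := fun z => by
    rw [← ConcreteCategory.comp_apply, ← Scheme.ΓSpecIso_inv_naturality]
    rfl
  have h2 := hi ((he x).trans ((congrArg _ hxy).trans (he y).symm))
  exact ((ConcreteCategory.isIso_iff_bijective (Scheme.ΓSpecIso (CommRingCat.of B)).inv).1 inferInstance).1 h2

theorem evOne_map {T T' : Over (Spec (CommRingCat.of k))} (c : T' ⟶ T)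
    (y : (Magnet.MonAct.eqvHom ((Magnet.MonAct.regular M).restrict i) (Magnet.MonAct.ofAction a)).obj (op T)) :
    evOne i a ((Magnet.MonAct.eqvHom ((Magnet.MonAct.regular M).restrict i) (Magnet.MonAct.ofAction a)).map c.op y) =
      c ≫ evOne i a y :=
  NatTrans.naturality_apply
    (Magnet.MonAct.eqvHom.evalAt ((Magnet.MonAct.regular M).restrict i) (Magnet.MonAct.ofAction a) η[M]) c.op y

/-- Representability for an affine target. -/
theorem exists_rep [IsAffine X.left] :
    ∃ (Z : Over (Spec (CommRingCat.of k))) (j : Z ⟶ X)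
      (e : (Magnet.MonAct.eqvHom ((Magnet.MonAct.regular M).restrict i) (Magnet.MonAct.ofAction a)).RepresentableBy Z),
      IsClosedImmersion j.left ∧ ∀ (T : Over (Spec (CommRingCat.of k))) (z : T ⟶ Z),
        evOne i a (e.homEquiv z) = z ≫ j := by
  let D := Magnet.MonAct.eqvHom ((Magnet.MonAct.regular M).restrict i) (Magnet.MonAct.ofAction a)
  haveI : IsAffineHom X.hom := inferInstance
  haveI : IsSeparated X.hom := inferInstance
  obtain ⟨CM, _, _, ⟨eM⟩⟩ := exists_iso_sp M
  obtain ⟨CG, _, _, ⟨eG⟩⟩ := exists_iso_sp G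
  obtain ⟨A, _, _, ⟨eX⟩⟩ := exists_iso_sp X
  obtain ⟨incl, hincl⟩ := exists_alg_pt (eG.inv ≫ i ≫ eM.hom)
  obtain ⟨δ, hδ⟩ := exists_alg_pt (uni2 CG A ≫ (eG.inv ⊗ₘ eX.inv) ≫ a.act ≫ eX.hom)
  haveI : IsIso eG.inv.left := inferInstanceAs (IsIso ((Over.forget _).map eG.inv))
  haveI : IsIso eM.hom.left := inferInstanceAs (IsIso ((Over.forget _).map eM.hom))
  haveI : IsSchemeTheoreticallyDominant (CoactBr.pt incl).left := by
    rw [hincl, Over.comp_left, Over.comp_left]
    infer_instance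
  have hinj : Function.Injective incl := injective_of_isSTD incl
  let J := extIdeal incl δ
  have key : ∀ (R : Type u) [CommRing R] [Algebra k R] (φ : A →ₐ[k] R),
      (∃ e : M ⊗ CoactBr.sp k R ⟶ X, (i ▷ _) ≫ e = orbMap a (CoactBr.pt φ ≫ eX.inv)) ↔ J ≤ RingHom.ker φ := by
    intro R _ _ φ
    rw [← exists_lift_iff incl δ hinj φ]
    let wG := uni2 CG R ≫ (eG.inv ▷ CoactBr.sp k R)
    let wM := uni2 CM R ≫ (eM.inv ▷ CoactBr.sp k R)
    have hG : wG ≫ orbMap a (CoactBr.pt φ ≫ eX.inv) ≫ eX.hom =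
        CoactBr.pt ((Algebra.TensorProduct.map (AlgHom.id k CG) φ).comp δ) := by
      rw [CoactBr.pt_comp, hδ, reassoc_of% (pt_uni2 (AlgHom.id k CG) φ), CoactBr.pt_id]
      simp [wG, orbMap, MonoidalCategory.tensorHom_def]
      rw [whisker_exchange_assoc]
    have hM : wG ≫ (i ▷ CoactBr.sp k R) = CoactBr.pt (Algebra.TensorProduct.map incl (AlgHom.id k R)) ≫ wM := by
      simp only [wG, wM]
      rw [reassoc_of% (pt_uni2 incl (AlgHom.id k R)), CoactBr.pt_id, hincl]
      simp [wG, wM, MonoidalCategory.tensorHom_def]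
    haveI : IsIso wM := inferInstanceAs (IsIso (uni2 CM R ≫ (eM.inv ▷ CoactBr.sp k R)))
    haveI : Epi wG := inferInstanceAs (Epi (uni2 CG R ≫ (eG.inv ▷ CoactBr.sp k R)))
    clear_value wG wM
    constructor
    · rintro ⟨e, he⟩
      obtain ⟨ψ, hψ⟩ := exists_alg_pt (wM ≫ e ≫ eX.hom)
      refine ⟨ψ, CoactBr.pt_injective ?_⟩
      rw [← hG, ← he, CoactBr.pt_comp, hψ, ← Category.assoc, ← hM]
      simp only [Category.assoc]
    · rintro ⟨ψ, hψ⟩
      refine ⟨inv wM ≫ CoactBr.pt ψ ≫ eX.inv, ?_⟩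
      rw [← cancel_epi wG, ← cancel_mono eX.hom]
      simp only [orbMap, Category.assoc] at hG ⊢
      rw [hG, reassoc_of% hM, IsIso.hom_inv_id_assoc, ← hψ, CoactBr.pt_comp, Iso.inv_hom_id, Category.comp_id]
  let Z := CoactBr.sp k (A ⧸ J)
  let π : Z ⟶ CoactBr.sp k A := CoactBr.pt (Ideal.Quotient.mkₐ k J)
  let j : Z ⟶ X := π ≫ eX.inv
  haveI : IsIso eX.inv.left := inferInstanceAs (IsIso ((Over.forget _).map eX.inv))
  haveI : IsClosedImmersion π.left := IsClosedImmersion.spec_of_surjective _ Ideal.Quotient.mk_surjective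
  haveI : IsClosedImmersion j.left := by
    rw [Over.comp_left]
    infer_instance
  haveI : Mono j := ⟨fun {T} u v h => Over.OverMorphism.ext ((cancel_mono j.left).1 (congrArg CommaMorphism.left h))⟩
  obtain ⟨e₀, he₀⟩ := (key (A ⧸ J) (Ideal.Quotient.mkₐ k J)).2 (fun y hy => Ideal.Quotient.eq_zero_iff_mem.2 hy)
  let y₀ : D.obj (op Z) := ⟨e₀, isEquivariant_of_restrict i a j e₀ he₀⟩
  have hy₀ : evOne i a y₀ = j := by
    change lift (toUnit Z ≫ η[M]) (𝟙 Z) ≫ e₀ = j
    have e1 : lift (toUnit Z ≫ η[M]) (𝟙 Z) = lift (toUnit Z ≫ η[G]) (𝟙 Z) ≫ (i ▷ Z) := by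
      rw [lift_whiskerRight, Category.assoc, IsMonHom.one_hom]
    rw [e1, Category.assoc]
    refine (congrArg (lift (toUnit Z ≫ η[G]) (𝟙 Z) ≫ ·) he₀).trans ?_
    change lift (toUnit Z ≫ η[G]) (𝟙 Z) ≫ (G ◁ j) ≫ a.act = j
    rw [lift_whiskerLeft_assoc, Category.id_comp, ← Hom.one_def]
    exact Magnet.MonAct.lift_one_act (Magnet.MonAct.ofAction a) j
  have hsurj : ∀ (T : Over (Spec (CommRingCat.of k))) (y : D.obj (op T)), ∃ z : T ⟶ Z, z ≫ j = evOne i a y := by
    intro T y
    let x := evOne i a y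
    let 𝒱 := T.left.affineCover
    have hloc : ∀ l, ∃ w : 𝒱.X l ⟶ Z.left, w ≫ j.left = 𝒱.f l ≫ x.left := by
      intro l
      let P : Over (Spec (CommRingCat.of k)) := Over.mk (𝒱.f l ≫ T.hom)
      haveI : IsAffine P.left := inferInstanceAs (IsAffine (𝒱.X l))
      obtain ⟨R, _, _, ⟨eP⟩⟩ := exists_iso_sp P
      let c : CoactBr.sp k R ⟶ T := eP.inv ≫ Over.homMk (𝒱.f l) rfl
      obtain ⟨φ, hφ⟩ := exists_alg_pt (c ≫ x ≫ eX.hom)
      have hle : J ≤ RingHom.ker φ := (key R φ).1 ⟨(M ◁ c) ≫ y.1, by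
        rw [← whisker_exchange_assoc, restrict_eq_orbMap i a y, hφ, orbMap, orbMap]
        simp [x]⟩
      let v : CoactBr.sp k R ⟶ Z := CoactBr.pt (Ideal.Quotient.liftₐ J φ fun y hy => hle hy)
      have hv : v ≫ j = c ≫ x := by
        rw [← cancel_mono eX.hom, Category.assoc, Category.assoc, Category.assoc, ← hφ, Iso.inv_hom_id,
          Category.comp_id, ← CoactBr.pt_comp]
        congr 1
      refine ⟨eP.hom.left ≫ v.left, ?_⟩
      have := congrArg (fun u : CoactBr.sp k R ⟶ X => (eP.hom ≫ u).left) hv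
      simp only [c, Category.assoc, Iso.hom_inv_id_assoc, Over.comp_left] at this
      rw [Category.assoc]
      exact this
    choose w hw using hloc
    let wg : T.left ⟶ Z.left := 𝒱.glueMorphisms w fun l m => by
      rw [← cancel_mono j.left, Category.assoc, Category.assoc, hw, hw, pullback.condition_assoc]
    have hwg : wg ≫ j.left = x.left := 𝒱.hom_ext _ _ fun l => by
      rw [Scheme.Cover.ι_glueMorphisms_assoc, hw]
    exact ⟨Over.homMk wg (by rw [← Over.w j, ← Category.assoc, hwg]; exact Over.w x),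
      Over.OverMorphism.ext hwg⟩
  choose z hz using hsurj
  refine ⟨Z, j,
    { homEquiv := fun {T} =>
        { toFun := fun u => D.map u.op y₀
          invFun := fun y => z T y
          left_inv := fun u => by
            refine (cancel_mono j).1 ?_
            rw [hz, evOne_map, hy₀]
          right_inv := fun y => evOne_injective i a T _ _ (by rw [evOne_map, hy₀, hz]) }
      homEquiv_comp := fun f g => by
        change D.map (f ≫ g).op y₀ = D.map f.op (D.map g.op y₀)
        rw [op_comp, Functor.map_comp, ConcreteCategory.comp_apply] }, inferInstance, fun T u => ?_⟩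
  change evOne i a (D.map u.op y₀) = u ≫ j
  rw [evOne_map, hy₀]

end GrothLib.MagnetKempf
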